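import Groth.Agent.SemiFact.K793.PushO
import Groth.Agent.SemiFact.K793.NodalFib
import Groth.Agent.SemiFact.K793.BlowNodal
import Groth.Agent.SDiv.K473.MeroReg
import Groth.Agent.Flat2C.BlowProper
import Groth.Agent.S1682
import Mathlib.RingTheory.Flat.TorsionFree

/-!
The blow-up of a closed point of a proper nodal family over a discrete valuation ring: flatness over the base and
`π_* O_Y = O_X`.
-/

set_option autoImplicit false
universe u

open CategoryTheory CategoryTheory.Limits AlgebraicGeometry IsLocalRing TopologicalSpace Mero nonZeroDivisors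

namespace K228.BlowO

/-- a morphism to an integral scheme with principal local rings which preserves regular sections is flat -/
theorem flat_of_regSub {M T : Scheme.{u}} (f : M ⟶ T) [IsIntegral T]
    (hT : ∀ t : T, IsPrincipalIdealRing (T.presheaf.stalk t))
    (h : ∀ (U : T.Opens) (s : Γ(T, U)), s ∈ regSub T U → f.app U s ∈ regSub M (f ⁻¹ᵁ U)) : Flat f := by
  apply Flat.of_stalkMap
  intro x
  have := hT (f x)
  algebraize [(f.stalkMap x).hom]
  change Module.Flat (T.presheaf.stalk (f x)) (M.presheaf.stalk x)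
  rw [Module.Flat.flat_iff_torsion_eq_bot_of_isBezout, eq_bot_iff]
  rintro y ⟨⟨a, ha⟩, hy⟩
  obtain ⟨V, hxV, s, rfl⟩ := T.presheaf.exists_germ_eq a
  have hs : s ∈ regSub T V := by
    rw [K473.MeroReg.mem_regSub_iff]
    intro t ht
    rw [mem_nonZeroDivisors_iff_ne_zero]
    intro h0
    have h1 : s = 0 := by
      apply germ_injective_of_isIntegral T t ht
      rw [map_zero]
      exact h0
    rw [h1, map_zero] at ha
    exact zero_notMem_nonZeroDivisors ha
  have h1 := h V s hs
  rw [K473.MeroReg.mem_regSub_iff] at h1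
  have h2 := h1 x hxV
  rw [← Scheme.Hom.germ_stalkMap_apply f V x hxV s] at h2
  have h3 : (f.stalkMap x).hom (T.presheaf.germ V (f x) hxV s) * y = 0 := hy
  exact (mem_nonZeroDivisors_iff_left.1 h2) y h3

section

variable {R : Type u} [CommRing R] [IsDomain R] [IsDiscreteValuationRing R]

theorem isPrincipal_stalk (t : Spec (CommRingCat.of R)) :
    IsPrincipalIdealRing ((Spec (CommRingCat.of R)).presheaf.stalk t) := by
  let A := (Spec (CommRingCat.of R)).presheaf.stalk t
  let _ : Algebra R A := StructureSheaf.stalkAlgebra R t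
  have h : IsLocalization.AtPrime A t.asIdeal := StructureSheaf.IsLocalization.to_stalk R t
  refine ⟨fun J => ?_⟩
  obtain ⟨x, hx⟩ := (IsPrincipalIdealRing.principal (J.under R)).principal
  refine ⟨algebraMap R A x, ?_⟩
  have h := IsLocalization.map_under t.asIdeal.primeCompl A J
  have hx' : J.under R = Ideal.span {x} := hx
  rw [hx', Ideal.map_span, Set.image_singleton] at h
  exact h.symm

theorem flat_blowUp {X Y : Scheme.{u}} (f : X ⟶ Spec (CommRingCat.of R)) [Flat f] (π : Y ⟶ X)
    (J : X.IdealSheafData) (hπ : BlowUp.IsBlowUp π J) : Flat (π ≫ f) := by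
  refine flat_of_regSub (π ≫ f) isPrincipal_stalk fun U s hs => ?_
  have h1 := K473.MeroReg.app_mem_regSub_of_isBlowUp hπ (K473.MeroReg.app_mem_regSub_of_flat f hs)
  rw [Scheme.Hom.comp_app]
  exact h1

omit [IsDomain R] [IsDiscreteValuationRing R] in
/-- closed points of a proper scheme over a local ring lie over the closed point -/
theorem map_eq_closedPoint [IsLocalRing R] {X : Scheme.{u}} (f : X ⟶ Spec (CommRingCat.of R)) [IsProper f] (p : X)
    (hp : IsClosed ({p} : Set X)) : f p = (closedPoint R : PrimeSpectrum R) := by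
  have h1 : IsClosed ({f p} : Set (Spec (CommRingCat.of R))) := by
    have := f.isClosedMap _ hp
    rwa [Set.image_singleton] at this
  have h2 : (f p : PrimeSpectrum R) ⤳ closedPoint R := PrimeSpectrum.le_iff_specializes _ _ |>.1 (le_maximalIdeal (f p).isPrime.ne_top)
  exact (h1.mem_iff_closure_subset.1 rfl (specializes_iff_mem_closure.1 h2)).symm

theorem isIso_generic {X Y : Scheme.{u}} (f : X ⟶ Spec (CommRingCat.of R)) (p : X)
    (hp : IsClosed ({p} : Set X)) (hfp : f p = (closedPoint R : PrimeSpectrum R))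
    (π : Y ⟶ X) (hπ : BlowUp.IsBlowUp π (Scheme.IdealSheafData.vanishingIdeal ⟨{p}, hp⟩)) :
    IsIso ((Neron.genericFibre R).map (Over.homMk π (by simp) : Over.mk (π ≫ f) ⟶ Over.mk f)) := by
  have hop : IsOpenImmersion (Neron.genPt R) :=
    Groth.Agent.Models.DVRGeneric.isOpenImmersion_generic R (FractionRing R)
  set g : Over.mk (π ≫ f) ⟶ Over.mk f := Over.homMk π (by simp) with hg
  have hpb := K793.PushO.isPullback_genericFibre g
  suffices h : IsIso ((Neron.genericFibre R).map g).left from
    @isIso_of_reflects_iso _ _ _ _ _ _ ((Neron.genericFibre R).map g) (Over.forget _) h _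
  set J := Scheme.IdealSheafData.vanishingIdeal (X := X) ⟨{p}, hp⟩ with hJ
  have h1 := Groth.Agent.S1682.result J π hπ
  have hU : IsPullback (π ∣_ J.support.compl) (π ⁻¹ᵁ J.support.compl).ι (Scheme.Opens.ι J.support.compl) π :=
    isPullback_morphismRestrict π _
  have hrange : Set.range (pullback.fst f (Neron.genPt R)) ⊆ Set.range (Scheme.Opens.ι J.support.compl) := by
    rw [Scheme.Opens.range_ι, Scheme.Pullback.range_fst]
    intro x hx
    change x ∉ J.support
    rw [← SetLike.mem_coe, hJ, Scheme.IdealSheafData.coe_support_vanishingIdeal]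
    rintro (rfl : x = p)
    obtain ⟨z, hz⟩ := hx
    have h2 : (PrimeSpectrum.comap (algebraMap R (FractionRing R)) z).asIdeal = maximalIdeal R := by
      have h3 : (Neron.genPt R) z = (closedPoint R : PrimeSpectrum R) := hz.trans hfp
      exact congrArg PrimeSpectrum.asIdeal h3
    obtain ⟨ϖ, hϖ⟩ := IsDiscreteValuationRing.exists_irreducible R
    have h4 : algebraMap R (FractionRing R) ϖ ∈ z.asIdeal := by
      change ϖ ∈ (PrimeSpectrum.comap (algebraMap R (FractionRing R)) z).asIdeal
      rw [h2, hϖ.maximalIdeal_eq]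
      exact Ideal.mem_span_singleton_self ϖ
    have h5 : IsUnit (algebraMap R (FractionRing R) ϖ) := by
      rw [isUnit_iff_ne_zero]
      intro h6
      exact hϖ.ne_zero ((FaithfulSMul.algebraMap_injective R (FractionRing R)) (by rw [h6, map_zero]))
    exact z.2.ne_top (Ideal.eq_top_of_isUnit_mem _ h4 h5)
  let j₁ := IsOpenImmersion.lift (Scheme.Opens.ι J.support.compl) (pullback.fst f (Neron.genPt R)) hrange
  have hj₁ : j₁ ≫ (Scheme.Opens.ι J.support.compl) = pullback.fst f (Neron.genPt R) := IsOpenImmersion.lift_fac _ _ _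
  have hw : (((Neron.genericFibre R).map g).left ≫ j₁) ≫ (Scheme.Opens.ι J.support.compl) =
      pullback.fst (π ≫ f) (Neron.genPt R) ≫ π := by
    rw [Category.assoc, hj₁]
    exact hpb.w.symm
  let l := hU.lift (((Neron.genericFibre R).map g).left ≫ j₁) (pullback.fst (π ≫ f) (Neron.genPt R)) hw
  have hl1 : l ≫ (π ∣_ J.support.compl) = ((Neron.genericFibre R).map g).left ≫ j₁ := hU.lift_fst _ _ _
  have hl2 : l ≫ (π ⁻¹ᵁ J.support.compl).ι = pullback.fst (π ≫ f) (Neron.genPt R) := hU.lift_snd _ _ _
  have hbig : IsPullback (l ≫ (π ⁻¹ᵁ J.support.compl).ι) ((Neron.genericFibre R).map g).left π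
      (j₁ ≫ (Scheme.Opens.ι J.support.compl)) := by
    rw [hl2, hj₁]
    exact hpb
  have hsm : IsPullback l ((Neron.genericFibre R).map g).left (π ∣_ J.support.compl) j₁ :=
    IsPullback.of_right hbig hl1 hU.flip
  exact MorphismProperty.of_isPullback (P := MorphismProperty.isomorphisms Scheme.{u}) hsm h1

/-- `π_* O_Y = O_X` for the blow-up of a closed point of a proper nodal family over a discrete valuation ring. -/
theorem isIso_app {X Y : Scheme.{u}} (f : X ⟶ Spec (CommRingCat.of R)) [IsProper f] (hf : Curv2.IsNodalFamily f)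
    (p : X) (hp : IsClosed ({p} : Set X))
    (π : Y ⟶ X) (hπ : BlowUp.IsBlowUp π (Scheme.IdealSheafData.vanishingIdeal ⟨{p}, hp⟩)) (U : X.Opens) :
    IsIso (π.app U) := by
  have h1 : IsNoetherianRing R := inferInstance
  have h2 : IsLocallyNoetherian X := LocallyOfFiniteType.isLocallyNoetherian f
  have h3 : IsProper π := Groth.Agent.Flat2C.BlowProper.isProper_of_isBlowUp hπ (K793.Chart.isFiniteTypeIdeal _)
  have h4 : Flat f := hf.1
  have h5 := flat_blowUp f π _ hπ
  have h6 := K793.NodalFib.isReduced_fiber f hf (closedPoint R)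
  have h7 := isIso_generic f p hp (map_eq_closedPoint f p hp) π hπ
  have i1 : Flat (Over.mk f).hom := h4
  have i2 : Flat (Over.mk (π ≫ f)).hom := h5
  have i3 : IsProper (Over.homMk π rfl : Over.mk (π ≫ f) ⟶ Over.mk f).left := h3
  have i4 : IsReduced ((Over.mk f).hom.fiber (closedPoint R)) := h6
  exact K793.PushO.main (Over.homMk π rfl : Over.mk (π ≫ f) ⟶ Over.mk f) h7 U

end

end K228.BlowO
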