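import Groth.Agent.SemiFact.K793.Basic
import Groth.Agent.SemiFact.K793.NodalFib
import Groth.Agent.Models.H62.ContrPoint
import Groth.Agent.CurvesB.FibreBC
import Groth.Agent.CurvesB.DimPts
import Groth.Agent.VarietyB.DimTop
import Groth.Agent.CycB.FiberStalk
import Mathlib.RingTheory.KrullDimension.NonZeroDivisors

/-!
The fibre over `p` of the blow-up `π : Y ⟶ X` of a closed point `p` with `Y` nodal over a discrete valuation ring:
it is reduced and of dimension one.
-/

set_option autoImplicit false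
universe u

open CategoryTheory CategoryTheory.Limits AlgebraicGeometry IsLocalRing TopologicalSpace

namespace K228.NodeFib

open Groth.Agent.CycB.FiberStalk Groth.Agent.Dix.PointIdeal

/-- a factor of a nonzerodivisor which generates a radical ideal generates a radical ideal -/
theorem isReduced_quotient {A : Type*} [CommRing A] {r t : A} (hr : r ∈ nonZeroDivisors A)
    (hred : _root_.IsReduced (A ⧸ Ideal.span {r})) (h : r ∈ Ideal.span {t}) :
    _root_.IsReduced (A ⧸ Ideal.span {t}) := by
  obtain ⟨c, hc⟩ := Ideal.mem_span_singleton.1 h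
  rw [← Ideal.isRadical_iff_quotient_reduced] at hred ⊢
  intro z hz
  obtain ⟨n, hn⟩ := hz
  rcases Nat.eq_zero_or_pos n with rfl | hn0
  · rw [pow_zero] at hn
    rw [(Ideal.eq_top_iff_one _).2 hn]
    trivial
  obtain ⟨m, rfl⟩ : ∃ m, n = m + 1 := ⟨n - 1, by omega⟩
  have h1 : z * c ∈ Ideal.span {r} := by
    apply hred
    refine ⟨m + 1, ?_⟩
    obtain ⟨d, hd⟩ := Ideal.mem_span_singleton.1 hn
    rw [mul_pow, hd, hc, Ideal.mem_span_singleton]
    exact ⟨d * c ^ m, by ring⟩
  obtain ⟨d, hd⟩ := Ideal.mem_span_singleton.1 h1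
  rw [Ideal.mem_span_singleton]
  refine ⟨d, ?_⟩
  rw [hc] at hr hd
  have h2 : c * (z - t * d) = 0 := by linear_combination hd
  have h3 := (mul_left_mem_nonZeroDivisors_eq_zero_iff (mul_mem_nonZeroDivisors.1 hr).2).1 h2
  exact sub_eq_zero.1 h3

theorem stalkHom_comp {R : Type u} [CommRing R] {X Y : Scheme.{u}} (f : X ⟶ Spec (CommRingCat.of R)) (π : Y ⟶ X)
    (y : Y) (r : R) : DualGr.stalkHom (π ≫ f) y r = (π.stalkMap y).hom (DualGr.stalkHom f (π y) r) := by
  have h1 := Scheme.Hom.germ_stalkMap_apply π ⊤ (y) trivial (show Γ(X, ⊤) from Coh.toGlobal f r)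
  exact h1.symm

theorem le_zero_of_lt_one {a : WithBot ℕ∞} (h : a < 1) : a ≤ 0 := by
  cases a with
  | bot => exact bot_le
  | coe n =>
    have h3 : n < 1 := by exact_mod_cast h
    rw [Order.lt_one_iff.mp h3]
    rfl

theorem le_zero_of_add_one_le {a : WithBot ℕ∞} (h : a + 1 ≤ 1) : a ≤ 0 := by
  cases a with
  | bot => exact bot_le
  | coe n =>
    have h3 : n + 1 ≤ 0 + 1 := by rw [zero_add]; exact_mod_cast h
    have h4 : n ≤ 0 := (ENat.add_le_add_iff_right (by simp)).1 h3
    exact_mod_cast h4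

theorem isClosed_singleton_of_dim_le_zero {T : Type*} [TopologicalSpace T] [QuasiSober T] [T0Space T]
    (h : topologicalKrullDim T ≤ 0) (z : T) : IsClosed ({z} : Set T) := by
  by_contra hz
  obtain ⟨x, hx, hne⟩ : ∃ x, z ⤳ x ∧ x ≠ z := by
    by_contra hcon
    push Not at hcon
    apply hz
    rw [← closure_subset_iff_isClosed]
    intro x hx
    exact hcon x (specializes_iff_mem_closure.2 hx)
  let a : IrreducibleCloseds T := ⟨closure {x}, isIrreducible_singleton.closure, isClosed_closure⟩
  let b : IrreducibleCloseds T := ⟨closure {z}, isIrreducible_singleton.closure, isClosed_closure⟩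
  have hab : a < b := by
    refine lt_of_le_of_ne (specializes_iff_closure_subset.1 hx) fun hab => hne ?_
    have h1 : closure ({x} : Set T) = closure {z} := congrArg (fun c : IrreducibleCloseds T => (c : Set T)) hab
    have h2 : x ⤳ z := specializes_iff_closure_subset.2 h1.ge
    exact (h2.antisymm hx).eq
  have h1 : (1 : WithBot ℕ∞) ≤ topologicalKrullDim T := Order.one_le_krullDim_iff.2 ⟨a, b, hab⟩
  have h2 := h1.trans h
  norm_num at h2

section

variable {R : Type u} [CommRing R] [IsDomain R] [IsDiscreteValuationRing R] {X Y : Scheme.{u}}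
  (f : X ⟶ Spec (CommRingCat.of R)) (π : Y ⟶ X) (p : X) (hp : IsClosed ({p} : Set X))
  (hfp : f p = (closedPoint R : PrimeSpectrum R))
  (hπ : BlowUp.IsBlowUp π (Scheme.IdealSheafData.vanishingIdeal ⟨{p}, hp⟩))

include hfp in
theorem mem_fibIdeal {ϖ : R} (hϖ : Irreducible ϖ) (y : Y) (hy : π y = p) :
    DualGr.stalkHom (π ≫ f) y ϖ ∈ fibIdeal π y := by
  subst hy
  rw [stalkHom_comp]
  refine Ideal.mem_map_of_mem _ ?_
  rw [mem_maximalIdeal, mem_nonunits_iff, K793.Basic.isUnit_stalkHom_iff_ne f _ hϖ]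
  exact fun h => h hfp

include hπ in
theorem exists_fibIdeal_eq (y : Y) (hy : π y = p) :
    ∃ t ∈ nonZeroDivisors (Y.presheaf.stalk y), t ∈ maximalIdeal (Y.presheaf.stalk y) ∧
      fibIdeal π y = Ideal.span {t} := by
  subst hy
  exact Groth.Agent.Models.H62.ContrPoint.exists_span π y hp hπ

include hπ hfp in
/-- the exceptional fibre is reduced -/
theorem isReduced_fiber [Flat (π ≫ f)] (hred : IsReduced ((π ≫ f).fiber (closedPoint R))) :
    IsReduced (π.fiber p) := by
  obtain ⟨ϖ, hϖ⟩ := IsDiscreteValuationRing.exists_irreducible R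
  have h : ∀ z : π.fiber p, _root_.IsReduced ((π.fiber p).presheaf.stalk z) := by
    intro z
    have hy : π (π.fiberι p z) = p := fiberι_mem π p z
    obtain ⟨t, -, -, htI⟩ := exists_fibIdeal_eq π p hp hπ _ hy
    have h1 := mem_fibIdeal f π p hfp hϖ _ hy
    rw [htI] at h1
    have h2 : (π ≫ f) (π.fiberι p z) = (closedPoint R : PrimeSpectrum R) := by
      rw [Scheme.Hom.comp_apply, hy, hfp]
    have h3 := K793.Basic.isReduced_quot (π ≫ f) (π.fiberι p z) hϖ h2
    have h4 := isReduced_quotient (K793.Basic.stalkHom_mem_nonZeroDivisors (π ≫ f) (π.fiberι p z) hϖ.ne_zero) h3 h1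
    rw [← htI] at h4
    exact isReduced_of_injective (stalkEquiv π p z).symm (stalkEquiv π p z).symm.injective
  exact isReduced_of_isReduced_stalk (π.fiber p)

theorem topologicalKrullDim_le_of_subset {T : Type*} [TopologicalSpace T] {A B : Set T} (h : A ⊆ B) :
    topologicalKrullDim A ≤ topologicalKrullDim B :=
  Groth.Agent.VarietyB.DimTop.topologicalKrullDim_le_of_isEmbedding Topology.IsInducing.id A B h

include hfp in
theorem dim_fiber_le (hpure : ∀ Z ∈ irreducibleComponents ↥((π ≫ f).fiber (closedPoint R)), topologicalKrullDim Z = 1) :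
    topologicalKrullDim (π.fiber p) ≤ 1 := by
  have h1 : topologicalKrullDim ((π ≫ f).fiber (closedPoint R)) ≤ 1 := by
    rw [Groth.Agent.VarietyB.DimTop.topologicalKrullDim_eq_iSup_irreducibleComponents]
    exact iSup_le fun Z => (hpure Z.1 Z.2).le
  rw [(π.fiberHomeo p).isHomeomorph.topologicalKrullDim_eq]
  rw [((π ≫ f).fiberHomeo (closedPoint R)).isHomeomorph.topologicalKrullDim_eq] at h1
  refine le_trans (topologicalKrullDim_le_of_subset ?_) h1
  intro y hy
  change (π ≫ f) y = _
  rw [Scheme.Hom.comp_apply, show π y = p from hy, hfp]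

include hfp hπ in
theorem one_le_dim_fiber [IsLocallyNoetherian Y] [Nonempty (π.fiber p)] [Flat (π ≫ f)]
    (hpure : ∀ Z ∈ irreducibleComponents ↥((π ≫ f).fiber (closedPoint R)), topologicalKrullDim Z = 1) :
    1 ≤ topologicalKrullDim (π.fiber p) := by
  obtain ⟨ϖ, hϖ⟩ := IsDiscreteValuationRing.exists_irreducible R
  by_contra hcon
  have hdim0 : topologicalKrullDim (π.fiber p) ≤ 0 := le_zero_of_lt_one (not_le.1 hcon)
  obtain ⟨z⟩ := ‹Nonempty (π.fiber p)›
  have hzc : IsClosed ({z} : Set (π.fiber p)) := isClosed_singleton_of_dim_le_zero hdim0 z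
  set y := π.fiberι p z with hydef
  have hy : π y = p := fiberι_mem π p z
  have hy2 : (π ≫ f) y = (closedPoint R : PrimeSpectrum R) := by
    rw [Scheme.Hom.comp_apply, hy, hfp]
  obtain ⟨t, ht0, htm, htI⟩ := exists_fibIdeal_eq π p hp hπ y hy
  have hloc0 : ringKrullDim (Y.presheaf.stalk y ⧸ Ideal.span {t}) ≤ 0 := by
    rw [← htI, ringKrullDim_eq_of_ringEquiv (stalkEquiv π p z)]
    exact (Groth.Agent.CurvesB.DimPts.ringKrullDim_stalk_le z).trans hdim0
  have hloc1 : ringKrullDim (Y.presheaf.stalk y) ≤ 1 := by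
    have h1 := ringKrullDim_le_ringKrullDim_quotient_add_card ({t} : Finset (Y.presheaf.stalk y)) (by
      rw [IsLocalRing.ringJacobson_eq_maximalIdeal]
      simpa using htm)
    simp only [Finset.card_singleton, Nat.cast_one] at h1
    have h2 : ((({t} : Finset (Y.presheaf.stalk y))) : Set (Y.presheaf.stalk y)) = {t} := Finset.coe_singleton t
    rw [h2] at h1
    refine h1.trans ?_
    calc ringKrullDim (Y.presheaf.stalk y ⧸ Ideal.span {t}) + 1 ≤ 0 + 1 := by gcongr
      _ = 1 := by rw [zero_add]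
  have hloc2 : ringKrullDim (Y.presheaf.stalk y ⧸ Ideal.span {DualGr.stalkHom (π ≫ f) y ϖ}) ≤ 0 := by
    have h1 := ringKrullDim_quotient_succ_le_of_nonZeroDivisor
      (K793.Basic.stalkHom_mem_nonZeroDivisors (π ≫ f) y hϖ.ne_zero)
    exact le_zero_of_add_one_le (h1.trans hloc1)
  obtain ⟨w, hw⟩ := K793.Basic.exists_fiber_point (π ≫ f) y hy2
  rw [ringKrullDim_eq_of_ringEquiv (K793.Basic.fibEquiv (π ≫ f) y hϖ w hw), ringKrullDim_stalk_eq_coheight] at hloc2
  have hgen : ∀ v, v ⤳ w → v = w := by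
    intro v hv
    have h1 : Order.coheight w = 0 := by
      have h2 : Order.coheight w ≤ 0 := by exact_mod_cast hloc2
      exact le_antisymm h2 bot_le
    have h2 : IsMax w := Order.coheight_eq_zero.1 h1
    have h3 : w ⤳ v := h2 hv
    exact (hv.antisymm h3).eq
  have h1 := (Groth.Agent.CurvesB.DimOneTop.forall_irreducibleComponents_iff.1 hpure w hgen).1
  obtain ⟨v, hwv, hne⟩ := h1
  have hwc : IsClosed ({w} : Set ((π ≫ f).fiber (closedPoint R))) := by
    have hci : IsClosedImmersion (X.fromSpecResidueField p) := isClosed_singleton_iff_isClosedImmersion.mp hp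
    have hci' : IsClosedImmersion (π.fiberι p) := MorphismProperty.pullback_fst _ _ hci
    have h2 : IsClosed ({y} : Set Y) := by
      have h3 := (π.fiberι p).isClosedEmbedding.isClosedMap _ hzc
      rwa [Set.image_singleton] at h3
    have h4 : ({w} : Set ((π ≫ f).fiber (closedPoint R))) = (π ≫ f).fiberι (closedPoint R) ⁻¹' {y} := by
      ext v
      simp only [Set.mem_singleton_iff, Set.mem_preimage]
      constructor
      · rintro rfl; exact hw
      · intro hv
        exact ((π ≫ f).fiberι (closedPoint R)).isEmbedding.injective (hv.trans hw.symm)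
    rw [h4]
    exact h2.preimage ((π ≫ f).fiberι (closedPoint R)).continuous
  exact hne (hwv.mem_closed hwc rfl)

end

end K228.NodeFib
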