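import Groth.Agent.Divis.BlowAlg

/-!
Two-chart decomposition for a blow-up whose ideal `I` has a reduction `(x, y)` with `I² = (x, y) I`: the algebra.
-/

set_option autoImplicit false
universe u

namespace K228.TwoBlow

open BlowUp

variable {A : Type u} [CommRing A] (I : Ideal A)

/-- elements of `A[I/a]` are `z / aⁿ` with `z ∈ Iⁿ` -/
theorem exists_pow {a : A} (ha : a ∈ I) (q : affineAlgebra A I a) :
    ∃ n : ℕ, ∃ z ∈ I ^ n, algebraMap A (affineAlgebra A I a) a ^ n * q = algebraMap A (affineAlgebra A I a) z := by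
  obtain ⟨q, hq⟩ := q
  suffices h : ∃ n : ℕ, ∃ z ∈ I ^ n, algebraMap A (Localization.Away a) a ^ n * q =
      algebraMap A (Localization.Away a) z by
    obtain ⟨n, z, hz, h⟩ := h
    exact ⟨n, z, hz, Subtype.ext h⟩
  induction hq using Algebra.adjoin_induction with
  | mem q hq =>
    obtain ⟨z, hz, rfl⟩ := hq
    refine ⟨1, z, by simpa using hz, ?_⟩
    rw [pow_one, mul_comm]
    exact IsLocalization.mk'_spec (Localization.Away a) z ⟨a, Submonoid.mem_powers a⟩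
  | algebraMap r => exact ⟨0, r, by simp, by simp⟩
  | add q₁ q₂ _ _ h₁ h₂ =>
    obtain ⟨n₁, z₁, hz₁, h₁⟩ := h₁
    obtain ⟨n₂, z₂, hz₂, h₂⟩ := h₂
    refine ⟨n₁ + n₂, a ^ n₂ * z₁ + a ^ n₁ * z₂, ?_, ?_⟩
    · apply Ideal.add_mem
      · rw [pow_add, mul_comm (I ^ n₁)]
        exact Ideal.mul_mem_mul (Ideal.pow_mem_pow ha _) hz₁
      · rw [pow_add]
        exact Ideal.mul_mem_mul (Ideal.pow_mem_pow ha _) hz₂
    · simp only [map_add, map_mul, map_pow]
      rw [← h₁, ← h₂]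
      ring
  | mul q₁ q₂ _ _ h₁ h₂ =>
    obtain ⟨n₁, z₁, hz₁, h₁⟩ := h₁
    obtain ⟨n₂, z₂, hz₂, h₂⟩ := h₂
    refine ⟨n₁ + n₂, z₁ * z₂, ?_, ?_⟩
    · rw [pow_add]
      exact Ideal.mul_mem_mul hz₁ hz₂
    · rw [map_mul, ← h₁, ← h₂]
      ring

theorem exists_of_pow {B : Type*} [CommRing B] (φ : A →+* B) (x : A) (h : I.map φ ≤ Ideal.span {φ x}) (n : ℕ)
    {z : A} (hz : z ∈ I ^ n) : ∃ t : B, φ z = φ x ^ n * t := by
  have h1 : φ z ∈ (Ideal.span {φ x}) ^ n := Ideal.pow_right_mono h n (by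
    rw [← Ideal.map_pow]
    exact Ideal.mem_map_of_mem φ hz)
  rw [Ideal.span_singleton_pow, Ideal.mem_span_singleton] at h1
  exact h1

/-- The decomposition `Γ(U) + Γ(V) = Γ(U ∩ V)`. -/
theorem decomp {Bx By B : Type*} [CommRing Bx] [CommRing By] [CommRing B] (φx : A →+* Bx) (φy : A →+* By)
    (φ : A →+* B) (rx : Bx →+* B) (ry : By →+* B) (hx : ∀ z, rx (φx z) = φ z) (hy : ∀ z, ry (φy z) = φ z)
    {x y : A} (hrx : φ x ∈ nonZeroDivisors B) (hry : φ y ∈ nonZeroDivisors B)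
    (hIx : I.map φx ≤ Ideal.span {φx x}) (hIy : I.map φy ≤ Ideal.span {φy y})
    (hI2 : I * I ≤ Ideal.span {x, y} * I) (n : ℕ) : ∀ i j : ℕ, i + j = n → ∀ z ∈ I ^ n, ∀ s : B,
      φ x ^ i * φ y ^ j * s = φ z → ∃ (a : Bx) (b : By), rx a - ry b = s := by
  have key : ∀ (i j : ℕ) (z : A), z ∈ I ^ (i + j) → ∃ s : B, φ x ^ i * φ y ^ j * s = φ z := by
    intro i j z hz
    have h1 : I.map φ ≤ Ideal.span {φ x} := by
      have : φ = rx.comp φx := RingHom.ext fun z => (hx z).symm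
      rw [this, ← Ideal.map_map]
      refine (Ideal.map_mono hIx).trans ?_
      rw [Ideal.map_span, Set.image_singleton]
      rfl
    have h2 : I.map φ ≤ Ideal.span {φ y} := by
      have : φ = ry.comp φy := RingHom.ext fun z => (hy z).symm
      rw [this, ← Ideal.map_map]
      refine (Ideal.map_mono hIy).trans ?_
      rw [Ideal.map_span, Set.image_singleton]
      rfl
    have h3 : φ z ∈ Ideal.span {φ x} ^ i * Ideal.span {φ y} ^ j := by
      have h4 : φ z ∈ (I.map φ) ^ i * (I.map φ) ^ j := by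
        rw [← pow_add, ← Ideal.map_pow]
        exact Ideal.mem_map_of_mem φ hz
      exact Ideal.mul_mono (Ideal.pow_right_mono h1 i) (Ideal.pow_right_mono h2 j) h4
    rw [Ideal.span_singleton_pow, Ideal.span_singleton_pow, Ideal.span_singleton_mul_span_singleton,
      Ideal.mem_span_singleton] at h3
    obtain ⟨s, hs⟩ := h3
    exact ⟨s, hs.symm⟩
  induction n with
  | zero =>
    intro i j hij z hz s hs
    obtain ⟨rfl, rfl⟩ : i = 0 ∧ j = 0 := by omega
    refine ⟨φx z, 0, ?_⟩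
    rw [hx, map_zero, sub_zero, ← hs]
    ring
  | succ n ih =>
    intro i j hij z hz s hs
    by_cases hj : j = 0
    · subst hj
      obtain rfl : i = n + 1 := by omega
      obtain ⟨t, ht⟩ := exists_of_pow I φx x hIx (n + 1) hz
      refine ⟨t, 0, ?_⟩
      have h1 : φ x ^ (n + 1) * (rx t - s) = 0 := by
        have h2 : φ z = φ x ^ (n + 1) * rx t := by rw [← hx z, ht, map_mul, map_pow, hx]
        rw [mul_sub, ← h2, ← hs]
        ring
      rw [map_zero, sub_zero]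
      exact sub_eq_zero.1 ((mul_left_mem_nonZeroDivisors_eq_zero_iff (pow_mem hrx _)).1 h1)
    by_cases hi : i = 0
    · subst hi
      obtain rfl : j = n + 1 := by omega
      obtain ⟨t, ht⟩ := exists_of_pow I φy y hIy (n + 1) hz
      refine ⟨0, -t, ?_⟩
      have h1 : φ y ^ (n + 1) * (ry t - s) = 0 := by
        have h2 : φ z = φ y ^ (n + 1) * ry t := by rw [← hy z, ht, map_mul, map_pow, hy]
        rw [mul_sub, ← h2, ← hs]
        ring
      rw [map_zero, map_neg, zero_sub, neg_neg]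
      exact sub_eq_zero.1 ((mul_left_mem_nonZeroDivisors_eq_zero_iff (pow_mem hry _)).1 h1)
    obtain ⟨i, rfl⟩ := Nat.exists_eq_succ_of_ne_zero hi
    obtain ⟨j, rfl⟩ := Nat.exists_eq_succ_of_ne_zero hj
    obtain ⟨m, rfl⟩ : ∃ m, n = m + 1 := ⟨i + j, by omega⟩
    have h1 : z ∈ Ideal.span {x, y} * I ^ (m + 1) := by
      have h2 : I ^ (m + 1 + 1) ≤ Ideal.span {x, y} * I ^ (m + 1) := by
        calc I ^ (m + 1 + 1) = I ^ m * (I * I) := by ring
          _ ≤ I ^ m * (Ideal.span {x, y} * I) := Ideal.mul_mono_right hI2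
          _ = Ideal.span {x, y} * I ^ (m + 1) := by ring
      exact h2 hz
    have h2 : ∃ z₁ ∈ I ^ (m + 1), ∃ z₂ ∈ I ^ (m + 1), x * z₁ + y * z₂ = z := by
      rw [Ideal.span_insert, Ideal.sup_mul] at h1
      obtain ⟨a, ha, b, hb, hab⟩ := Submodule.mem_sup.1 h1
      obtain ⟨z₁, hz₁, rfl⟩ := Ideal.mem_span_singleton_mul.1 ha
      obtain ⟨z₂, hz₂, rfl⟩ := Ideal.mem_span_singleton_mul.1 hb
      exact ⟨z₁, hz₁, z₂, hz₂, hab⟩
    obtain ⟨z₁, hz₁, z₂, hz₂, hzz⟩ := h2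
    obtain ⟨s₁, hs₁⟩ := key i (j + 1) z₁ (by rwa [show i + (j + 1) = m + 1 by omega])
    obtain ⟨s₂, hs₂⟩ := key (i + 1) j z₂ (by rwa [show i + 1 + j = m + 1 by omega])
    obtain ⟨a₁, b₁, h₁⟩ := ih i (j + 1) (by omega) z₁ hz₁ s₁ hs₁
    obtain ⟨a₂, b₂, h₂⟩ := ih (i + 1) j (by omega) z₂ hz₂ s₂ hs₂
    refine ⟨a₁ + a₂, b₁ + b₂, ?_⟩
    have h3 : φ x ^ (i + 1) * φ y ^ (j + 1) * (s₁ + s₂ - s) = 0 := by
      have h4 : φ x ^ (i + 1) * φ y ^ (j + 1) * s = φ x * φ z₁ + φ y * φ z₂ := by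
        have h5 := hs
        rw [Nat.succ_eq_add_one, Nat.succ_eq_add_one, ← hzz, map_add, map_mul, map_mul] at h5
        exact h5
      rw [← hs₁, ← hs₂] at h4
      linear_combination -h4
    have h4 := sub_eq_zero.1 ((mul_left_mem_nonZeroDivisors_eq_zero_iff
      (mul_mem (pow_mem hrx _) (pow_mem hry _))).1 h3)
    rw [← h4, ← h₁, ← h₂, map_add, map_add]
    ring

end K228.TwoBlow
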