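import Groth.Agent.Divis.BlowChart
import Groth.Agent.CohqA.TwoChart
import Groth.Agent.SemiFact.K228.TwoBlowAlg

/-!
The blow-up of `Spec A` in an ideal `I` with `I² = (x, y) I`: it is covered by two affine charts `U`, `V` with
`Γ(U) + Γ(V) = Γ(U ∩ V)`; hence `H¹` of the structure sheaf of a closed subscheme vanishes.
-/

set_option autoImplicit false
universe u

open CategoryTheory CategoryTheory.Limits AlgebraicGeometry BlowUp Groth.Agent.Divis.BlowChart

namespace K228.TwoBlow

variable {A : Type u} [CommRing A] (I : Ideal A) {X' : Scheme.{u}} (b : X' ⟶ Spec (CommRingCat.of A))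

/-- the functions on a chart -/
theorem exists_ringEquiv (hb : IsBlowUp b (idl I)) {a : A} (ha : a ∈ I) :
    ∃ θ : affineAlgebra A I a ≃+* Γ(X', chartLocus I b a),
      ∀ z, θ (algebraMap A _ z) = resT X' (chartLocus I b a) (glob b z) := by
  obtain ⟨e, he⟩ := exists_iso I b hb ha
  let e1 : CommRingCat.of (affineAlgebra A I a) ≅ Γ((chartLocus I b a).toScheme, ⊤) :=
    (Scheme.ΓSpecIso (CommRingCat.of (affineAlgebra A I a))).symm ≪≫ Scheme.Γ.mapIso e.op
  let e2 : CommRingCat.of (affineAlgebra A I a) ≅ Γ(X', chartLocus I b a) :=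
    e1 ≪≫ (chartLocus I b a).topIso
  refine ⟨e2.commRingCatIsoToRingEquiv, fun z => ?_⟩
  have h1 : e2.hom.hom (algebraMap A (affineAlgebra A I a) z) = (chartLocus I b a).topIso.hom.hom
      (glob e.hom (algebraMap A (affineAlgebra A I a) z)) := rfl
  change e2.hom.hom (algebraMap A (affineAlgebra A I a) z) = _
  have h2 : glob e.hom (algebraMap A (affineAlgebra A I a) z) = glob (e.hom ≫ chartMap I a) z := by
    rw [glob_map]; rfl
  rw [h1, h2, he, glob_comp, RingHom.comp_apply]
  have h3 : (chartLocus I b a).ι.appTop ≫ (chartLocus I b a).topIso.hom =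
      X'.presheaf.map (homOfLE (le_top : chartLocus I b a ≤ ⊤)).op := by
    rw [Scheme.Opens.ι_appTop]
    exact (X'.presheaf.map_comp _ _).symm
  exact congr($(congrArg CommRingCat.Hom.hom h3) (glob b z))

theorem isAffineOpen_chartLocus (hb : IsBlowUp b (idl I)) {a : A} (ha : a ∈ I) :
    IsAffineOpen (chartLocus I b a) := by
  obtain ⟨e, -⟩ := exists_iso I b hb ha
  exact IsAffine.of_isIso e.hom

/-- On opens of the chart of `a` the function `a` is regular. -/
theorem mem_nonZeroDivisors (hb : IsBlowUp b (idl I)) {a : A} (ha : a ∈ I) (W : X'.Opens)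
    (hW : W ≤ chartLocus I b a) : resT X' W (glob b a) ∈ nonZeroDivisors Γ(X', W) := by
  obtain ⟨θ, hθ⟩ := exists_ringEquiv I b hb ha
  have h1 : resT X' (chartLocus I b a) (glob b a) ∈ nonZeroDivisors Γ(X', chartLocus I b a) := by
    rw [← hθ]
    have h2 := Groth.Agent.Divis.BlowAlg.algebraMap_mem_nonZeroDivisors I a
    rw [mem_nonZeroDivisors_iff_right] at h2 ⊢
    intro x hx
    have h3 := h2 (θ.symm x) (by
      apply θ.injective
      rw [map_mul, θ.apply_symm_apply, hx, map_zero])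
    rw [← θ.apply_symm_apply x, h3, map_zero]
  rw [mem_nonZeroDivisors_iff_right]
  intro x hx
  apply TopCat.Presheaf.section_ext X'.sheaf W
  intro y hy
  have h3 := congrArg (X'.presheaf.germ W y hy) hx
  rw [map_mul, germ_resT, map_zero] at h3
  change X'.presheaf.germ W y hy x = X'.presheaf.germ W y hy 0
  have h4 := germ_mem_nonZeroDivisors (isAffineOpen_chartLocus I b hb ha) h1 y (hW hy)
  rw [germ_resT] at h4
  rw [mem_nonZeroDivisors_iff_right.1 h4 _ h3, map_zero]

theorem map_le_span (hb : IsBlowUp b (idl I)) {a : A} (ha : a ∈ I) :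
    I.map ((resT X' (chartLocus I b a)).comp (glob b)) ≤
      Ideal.span {(resT X' (chartLocus I b a)).comp (glob b) a} := by
  obtain ⟨θ, hθ⟩ := exists_ringEquiv I b hb ha
  have h1 : (resT X' (chartLocus I b a)).comp (glob b) =
      (θ : affineAlgebra A I a →+* Γ(X', chartLocus I b a)).comp (algebraMap A _) :=
    RingHom.ext fun z => (hθ z).symm
  rw [h1, ← Ideal.map_map, Groth.Agent.Divis.BlowAlg.map_eq_span I a ha, Ideal.map_span, Set.image_singleton]
  rfl

theorem ideal_chartLocus (hb : IsBlowUp b (idl I)) {a : A} (ha : a ∈ I) :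
    ((idl I).comap b).ideal ⟨chartLocus I b a, isAffineOpen_chartLocus I b hb ha⟩ =
      Ideal.span {resT X' (chartLocus I b a) (glob b a)} := by
  rw [comap_idl_ideal]
  refine le_antisymm (map_le_span I b hb ha) ?_
  rw [Ideal.span_singleton_le_iff_mem]
  exact Ideal.mem_map_of_mem ((resT X' (chartLocus I b a)).comp (glob b)) ha

theorem exists_quot (hb : IsBlowUp b (idl I)) {a : A} (ha : a ∈ I) {c : A} (hc : c ∈ I) :
    ∃ f : Γ(X', chartLocus I b a), resT X' (chartLocus I b a) (glob b c) =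
      resT X' (chartLocus I b a) (glob b a) * f := by
  have h1 := map_le_span I b hb ha (Ideal.mem_map_of_mem _ hc)
  exact Ideal.mem_span_singleton.1 h1

/-- The intersection of two charts is a basic open. -/
theorem inf_eq_basicOpen (hb : IsBlowUp b (idl I)) {x y : A} (hx : x ∈ I) (hy : y ∈ I)
    (f : Γ(X', chartLocus I b x)) (hf : resT X' (chartLocus I b x) (glob b y) =
      resT X' (chartLocus I b x) (glob b x) * f) :
    chartLocus I b x ⊓ chartLocus I b y = X'.basicOpen f := by
  apply le_antisymm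
  · obtain ⟨g, hg⟩ := exists_quot I b hb hy hx
    have h1 := congrArg (X'.presheaf.map (homOfLE (inf_le_left :
      chartLocus I b x ⊓ chartLocus I b y ≤ _)).op) hf
    have h2 := congrArg (X'.presheaf.map (homOfLE (inf_le_right :
      chartLocus I b x ⊓ chartLocus I b y ≤ _)).op) hg
    rw [map_mul, map_resT, map_resT] at h1 h2
    have h3 := mem_nonZeroDivisors I b hb hx (chartLocus I b x ⊓ chartLocus I b y) inf_le_left
    rw [h1, mul_assoc] at h2
    have h4 : IsUnit (X'.presheaf.map (homOfLE (inf_le_left :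
        chartLocus I b x ⊓ chartLocus I b y ≤ _)).op f) := by
      refine IsUnit.of_mul_eq_one (X'.presheaf.map (homOfLE (inf_le_right :
        chartLocus I b x ⊓ chartLocus I b y ≤ _)).op g) ((mul_cancel_left_mem_nonZeroDivisors h3).1 ?_)
      rw [mul_one]
      exact h2.symm
    have h5 := Scheme.basicOpen_of_isUnit X' h4
    rw [Scheme.basicOpen_res] at h5
    rw [← h5]
    exact inf_le_right
  · refine le_inf (X'.basicOpen_le f) ?_
    exact basicOpen_le_chartLocus I b y ⟨chartLocus I b x, isAffineOpen_chartLocus I b hb hx⟩ _ f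
      (ideal_chartLocus I b hb hx) hf

/-- **The decomposition `Γ(U) + Γ(V) = Γ(U ∩ V)`.** -/
theorem exists_sub (hb : IsBlowUp b (idl I)) {x y : A} (hx : x ∈ I) (hy : y ∈ I)
    (hI2 : I * I ≤ Ideal.span {x, y} * I) (s : Γ(X', chartLocus I b x ⊓ chartLocus I b y)) :
    ∃ (a : Γ(X', chartLocus I b x)) (c : Γ(X', chartLocus I b y)),
      X'.presheaf.map (homOfLE inf_le_left).op a - X'.presheaf.map (homOfLE inf_le_right).op c = s := by
  obtain ⟨f, hf⟩ := exists_quot I b hb hx hy
  have hbo := inf_eq_basicOpen I b hb hx hy f hf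
  have hU := isAffineOpen_chartLocus I b hb hx
  set φ : A →+* Γ(X', chartLocus I b x ⊓ chartLocus I b y) :=
    (resT X' (chartLocus I b x ⊓ chartLocus I b y)).comp (glob b) with hφ
  have hs : ∃ (n i : ℕ) (z : A), z ∈ I ^ i ∧ φ x ^ i * φ y ^ n * s = φ (x ^ n * z) := by
    have key : ∀ (W : X'.Opens) (hW : W = X'.basicOpen f) (hle : W ≤ chartLocus I b x) (s : Γ(X', W)),
        ∃ (n : ℕ) (s' : Γ(X', chartLocus I b x)),
          X'.presheaf.map (homOfLE hle).op s' = (X'.presheaf.map (homOfLE hle).op f) ^ n * s := by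
      rintro _ rfl hle s
      obtain ⟨n, s', h⟩ := exists_eq_pow_mul_of_isAffineOpen X' _ hU f s
      exact ⟨n, s', h⟩
    obtain ⟨n, s', h⟩ := key _ hbo inf_le_left s
    obtain ⟨θ, hθ⟩ := exists_ringEquiv I b hb hx
    obtain ⟨i, z, hz, h2⟩ := exists_pow I hx (θ.symm s')
    have h3 := congrArg θ h2
    rw [map_mul, map_pow, hθ, hθ, θ.apply_symm_apply] at h3
    have h4 := congrArg (X'.presheaf.map (homOfLE (inf_le_left :
      chartLocus I b x ⊓ chartLocus I b y ≤ _)).op) h3
    rw [map_mul, map_pow, map_resT, map_resT, h] at h4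
    have h5 := congrArg (X'.presheaf.map (homOfLE (inf_le_left :
      chartLocus I b x ⊓ chartLocus I b y ≤ _)).op) hf
    rw [map_mul, map_resT, map_resT] at h5
    refine ⟨n, i, z, hz, ?_⟩
    have h6 : φ y = φ x * X'.presheaf.map (homOfLE (inf_le_left :
      chartLocus I b x ⊓ chartLocus I b y ≤ _)).op f := h5
    have h7 : φ x ^ i * ((X'.presheaf.map (homOfLE (inf_le_left :
      chartLocus I b x ⊓ chartLocus I b y ≤ _)).op f) ^ n * s) = φ z := h4
    rw [map_mul, map_pow, h6, ← h7]
    ring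
  obtain ⟨n, i, z, hz, hs⟩ := hs
  refine decomp I ((resT X' (chartLocus I b x)).comp (glob b)) ((resT X' (chartLocus I b y)).comp (glob b)) φ
    (X'.presheaf.map (homOfLE inf_le_left).op).hom (X'.presheaf.map (homOfLE inf_le_right).op).hom
    (fun z => map_resT inf_le_left _) (fun z => map_resT inf_le_right _)
    (mem_nonZeroDivisors I b hb hx _ inf_le_left) (mem_nonZeroDivisors I b hb hy _ inf_le_right)
    (map_le_span I b hb hx) (map_le_span I b hb hy) hI2 (i + n) i n rfl (x ^ n * z) ?_ s hs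
  rw [add_comm, pow_add]
  exact Ideal.mul_mem_mul (Ideal.pow_mem_pow hx n) hz

/-- The two charts cover. -/
theorem sup_eq_top (hb : IsBlowUp b (idl I)) {x y : A} (hx : x ∈ I) (hy : y ∈ I)
    (hI2 : I * I ≤ Ideal.span {x, y} * I) : chartLocus I b x ⊔ chartLocus I b y = ⊤ := by
  rw [eq_top_iff]
  intro p _
  obtain ⟨a, ha, hp⟩ := exists_mem_chartLocus I b hb.1 p
  have hU := isAffineOpen_chartLocus I b hb ha
  obtain ⟨f, hf⟩ := exists_quot I b hb ha hx
  obtain ⟨g, hg⟩ := exists_quot I b hb ha hy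
  set φ := (resT X' (chartLocus I b a)).comp (glob b) with hφ
  have h1 : a * a ∈ Ideal.span {x, y} * I := hI2 (Ideal.mul_mem_mul ha ha)
  rw [Ideal.span_insert, Ideal.sup_mul] at h1
  obtain ⟨z₁, hz₁, z₂, hz₂, h1⟩ := Submodule.mem_sup.1 h1
  obtain ⟨i, hi, rfl⟩ := Ideal.mem_span_singleton_mul.1 hz₁
  obtain ⟨j, hj, rfl⟩ := Ideal.mem_span_singleton_mul.1 hz₂
  obtain ⟨i', hi'⟩ := exists_quot I b hb ha hi
  obtain ⟨j', hj'⟩ := exists_quot I b hb ha hj
  have h2 := congrArg φ h1
  have h3 : φ a * φ a * (f * i' + g * j') = φ a * φ a * 1 := by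
    rw [map_add, map_mul, map_mul, map_mul] at h2
    have e1 : φ x = φ a * f := hf
    have e2 : φ y = φ a * g := hg
    have e3 : φ i = φ a * i' := hi'
    have e4 : φ j = φ a * j' := hj'
    rw [e1, e2, e3, e4] at h2
    linear_combination h2
  have hreg := mem_nonZeroDivisors I b hb ha (chartLocus I b a) le_rfl
  have h4 : f * i' + g * j' = 1 := (mul_cancel_left_mem_nonZeroDivisors (mul_mem hreg hreg)).1 h3
  have h5 : IsUnit (X'.presheaf.germ _ p hp f) ∨ IsUnit (X'.presheaf.germ _ p hp g) := by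
    by_contra hcon
    push Not at hcon
    have h6 := congrArg (X'.presheaf.germ _ p hp) h4
    rw [map_add, map_mul, map_mul, map_one] at h6
    have h7 : (1 : X'.presheaf.stalk p) ∈ IsLocalRing.maximalIdeal (X'.presheaf.stalk p) := by
      rw [← h6]
      exact Ideal.add_mem _ (Ideal.mul_mem_right _ _ ((IsLocalRing.mem_maximalIdeal _).2 hcon.1))
        (Ideal.mul_mem_right _ _ ((IsLocalRing.mem_maximalIdeal _).2 hcon.2))
    exact (Ideal.ne_top_iff_one _).1 (IsLocalRing.maximalIdeal.isMaximal _).ne_top h7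
  rcases h5 with h5 | h5
  · refine Or.inl (basicOpen_le_chartLocus I b x ⟨_, hU⟩ _ f (ideal_chartLocus I b hb ha) hf ?_)
    exact (Scheme.mem_basicOpen X' f p hp).2 h5
  · refine Or.inr (basicOpen_le_chartLocus I b y ⟨_, hU⟩ _ g (ideal_chartLocus I b hb ha) hg ?_)
    exact (Scheme.mem_basicOpen X' g p hp).2 h5

/-- **Vanishing of `H¹` of the structure sheaf of closed subschemes.** -/
theorem subsingleton_H1 (hb : IsBlowUp b (idl I)) {x y : A} (hx : x ∈ I) (hy : y ∈ I)
    (hI2 : I * I ≤ Ideal.span {x, y} * I) {F : Scheme.{u}} (i : F ⟶ X') [IsClosedImmersion i] :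
    Subsingleton (Coh.HH F (Coh.structureModule F) 1) := by
  have hU := isAffineOpen_chartLocus I b hb hx
  have hV := isAffineOpen_chartLocus I b hb hy
  have hcov := sup_eq_top I b hb hx hy hI2
  have hU' : IsAffineOpen (i ⁻¹ᵁ chartLocus I b x) := hU.preimage i
  have hV' : IsAffineOpen (i ⁻¹ᵁ chartLocus I b y) := hV.preimage i
  have hcov' : (i ⁻¹ᵁ chartLocus I b x) ⊔ (i ⁻¹ᵁ chartLocus I b y) = ⊤ := by
    rw [eq_top_iff]
    intro z _
    have : i z ∈ chartLocus I b x ⊔ chartLocus I b y := by rw [hcov]; trivial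
    exact this
  refine subsingleton_of_forall_eq 0 fun c => ?_
  obtain ⟨s, rfl⟩ := Groth.Agent.CohqA.TwoChart.δO_surjective hcov' hU' hV' c
  rw [Groth.Agent.CohqA.TwoChart.δO_eq_zero_iff]
  have hUV : IsAffineOpen (chartLocus I b x ⊓ chartLocus I b y) := by
    obtain ⟨f, hf⟩ := exists_quot I b hb hx hy
    rw [inf_eq_basicOpen I b hb hx hy f hf]
    exact hU.basicOpen f
  obtain ⟨s', rfl⟩ := i.app_surjective _ hUV s
  obtain ⟨a, c, rfl⟩ := exists_sub I b hb hx hy hI2 s'
  refine ⟨i.app _ a, i.app _ c, ?_⟩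
  rw [map_sub]
  congr 1
  · exact congr($(congrArg CommRingCat.Hom.hom (i.naturality (homOfLE (inf_le_left :
      chartLocus I b x ⊓ chartLocus I b y ≤ _)).op)) a).symm
  · exact congr($(congrArg CommRingCat.Hom.hom (i.naturality (homOfLE (inf_le_right :
      chartLocus I b x ⊓ chartLocus I b y ≤ _)).op)) c).symm

end K228.TwoBlow
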