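import Groth.Agent.SemiFact.K228.FibIff
import Groth.Agent.SemiFact.K228.TwoBlow
import Groth.Agent.SemiFact.K793.BlowNodal

/-!
`H¹` of the structure sheaf of the exceptional fibre of the blow-up of a non-regular closed point of a nodal family.
-/

set_option autoImplicit false
universe u

open BlowUp CategoryTheory CategoryTheory.Limits AlgebraicGeometry IsLocalRing

namespace K228.NodeH1

open Groth.Agent.Models.NodeRing Groth.Agent.Models.NodeBlow Groth.Agent.Models.NodeStep
open Groth.Agent.Divis.BlowChart K793.NodeBlow Groth.Agent.Models K793.Chart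

/-- `(u, v, t)² = (u + v, t) (u, v, t)` in `D[u,v]/(uv - t²c)` -/
theorem orig_sq_le {D : Type u} [CommRing D] (t c : D) {a : D} (ha : a = t ^ 2 * c) :
    orig t a * orig t a ≤ Ideal.span {uu D a + vv D a, algebraMap D (W D a) t} * orig t a := by
  set I := orig t a with hI
  set J := Ideal.span {uu D a + vv D a, algebraMap D (W D a) t} * I with hJ
  have hu : uu D a ∈ I := Ideal.subset_span (by simp)
  have hv : vv D a ∈ I := Ideal.subset_span (by simp)
  have ht : algebraMap D (W D a) t ∈ I := Ideal.subset_span (by simp)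
  have hx : uu D a + vv D a ∈ Ideal.span {uu D a + vv D a, algebraMap D (W D a) t} := Ideal.subset_span (by simp)
  have hy : algebraMap D (W D a) t ∈ Ideal.span {uu D a + vv D a, algebraMap D (W D a) t} :=
    Ideal.subset_span (by simp)
  have htJ : ∀ z ∈ I, algebraMap D (W D a) t * z ∈ J := fun z hz => Ideal.mul_mem_mul hy hz
  have huv : uu D a * vv D a ∈ J := by
    have : algebraMap D (W D a) a = algebraMap D _ t * (algebraMap D _ t * algebraMap D _ c) :=
      (congrArg (algebraMap D (W D a)) ha).trans (by rw [map_mul, map_pow]; ring)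
    rw [uu_mul_vv, this]
    exact htJ _ (Ideal.mul_mem_right _ _ ht)
  have huu : uu D a * uu D a ∈ J := by
    have : uu D a * uu D a = (uu D a + vv D a) * uu D a - uu D a * vv D a := by ring
    rw [this]
    exact Ideal.sub_mem _ (Ideal.mul_mem_mul hx hu) huv
  have hvv : vv D a * vv D a ∈ J := by
    have : vv D a * vv D a = (uu D a + vv D a) * vv D a - uu D a * vv D a := by ring
    rw [this]
    exact Ideal.sub_mem _ (Ideal.mul_mem_mul hx hv) huv
  have h1 : I = Ideal.span {uu D a, vv D a, algebraMap D _ t} := rfl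
  rw [Ideal.mul_le]
  intro p₀ hp₀ q₀ hq₀
  suffices h : ∀ p ∈ ({uu D a, vv D a, algebraMap D _ t} : Set (W D a)),
      ∀ q ∈ ({uu D a, vv D a, algebraMap D _ t} : Set (W D a)), p * q ∈ J by
    rw [h1] at hp₀ hq₀
    induction hp₀ using Submodule.span_induction with
    | zero => rw [zero_mul]; exact J.zero_mem
    | add a b _ _ ha hb => rw [add_mul]; exact J.add_mem ha hb
    | smul r a _ ha => rw [smul_eq_mul, mul_assoc]; exact J.mul_mem_left _ ha
    | mem p hp =>
      induction hq₀ using Submodule.span_induction with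
      | zero => rw [mul_zero]; exact J.zero_mem
      | add a b _ _ ha hb => rw [mul_add]; exact J.add_mem ha hb
      | smul r a _ ha => rw [smul_eq_mul, mul_left_comm]; exact J.mul_mem_left _ ha
      | mem q hq => exact h p hp q hq
  intro p hp q hq
  simp only [Set.mem_insert_iff, Set.mem_singleton_iff] at hp hq
  rcases hp with rfl | rfl | rfl
  · rcases hq with rfl | rfl | rfl
    · exact huu
    · exact huv
    · rw [mul_comm (uu D a)]; exact htJ _ hu
  · rcases hq with rfl | rfl | rfl
    · rw [mul_comm (vv D a)]; exact huv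
    · exact hvv
    · rw [mul_comm (vv D a)]; exact htJ _ hv
  · rcases hq with rfl | rfl | rfl
    · exact htJ _ hu
    · exact htJ _ hv
    · exact htJ _ ht

variable {R : Type u} [CommRing R] {ϖ : R} {X : Scheme.{u}} {p : X ⟶ Spec (CommRingCat.of R)} {x : X}

theorem subsingleton_H1_of_chart [IsLocallyNoetherian X] (C : NChart R ϖ p x)
    (hreg : ¬ IsRegularLocalRing (X.presheaf.stalk x))
    (htm : algebraMap C.D (W C.D C.a) C.t ∈ (C.g C.y).asIdeal) (c : C.D) (hc : C.a = C.t ^ 2 * c)
    (hx : IsClosed ({x} : Set X)) {X' : Scheme.{u}} (b : X' ⟶ X)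
    (hb : IsBlowUp b (Scheme.IdealSheafData.vanishingIdeal ⟨{x}, hx⟩)) :
    Subsingleton (Coh.HH (b.fiber x) (Coh.structureModule (b.fiber x)) 1) := by
  obtain ⟨U₀, hy, h1, h2⟩ := C.exists_shrink
  let e₀ : U₀.toScheme ⟶ X := U₀.ι ≫ C.e
  let g₀ : U₀.toScheme ⟶ Spec (CommRingCat.of (W C.D C.a)) := U₀.ι ≫ C.g
  have he₀ : Etale e₀ := inferInstance
  have hg₀ : Etale g₀ := inferInstance
  let y₀ : U₀.toScheme := ⟨C.y, hy⟩
  have hey : e₀ y₀ = x := C.hy
  have hU' := Groth.Agent.S1680.result e₀ _ b hb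
  rw [EtRadical.comap_vanishingIdeal e₀] at hU'
  obtain ⟨W', b', hb'⟩ := Groth.Agent.Flat2C.BlowExist.exists_isBlowUp
      (idl (orig C.t C.a))
  have hW' := Groth.Agent.S1680.result g₀ _ b' hb'
  have hta : C.t ∣ C.a := ⟨C.t * c, by rw [hc]; ring⟩
  have hrad : (orig C.t C.a).IsRadical := (orig_isPrime C.irr hta).isRadical
  rw [idl_eq_vanishingIdeal _ hrad, EtRadical.comap_vanishingIdeal g₀] at hW'
  have hsupp : (⟨{x}, hx⟩ : TopologicalSpace.Closeds X).preimage e₀.continuous =
      ((idl (orig C.t C.a)).support).preimage g₀.continuous := by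
    ext u
    simp only [TopologicalSpace.Closeds.coe_preimage, Set.mem_preimage, SetLike.mem_coe]
    rw [C.eq_iff_mem_support _ (C.asIdeal_eq_orig hreg htm)]
    constructor
    · intro hu
      have h3 : C.e (U₀.ι u) = x := hu
      have h4 := h1 _ u.2 h3
      change C.g (U₀.ι u) = _
      exact congrArg C.g h4
    · intro hu
      have h4 := h2 _ u.2 hu
      change C.e (U₀.ι u) = x
      exact (congrArg C.e h4).trans C.hy
  rw [hsupp] at hU'
  obtain ⟨θ, hθ, -⟩ := Groth.Agent.Flat2C.BlowProper.exists_iso hU' hW'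
  have hpb : IsPullback (θ.hom ≫ pullback.snd g₀ b') (pullback.fst e₀ b) b' g₀ := by
    have h3 : IsPullback (pullback.snd g₀ b') (pullback.fst g₀ b') b' g₀ := (IsPullback.of_hasPullback g₀ b').flip
    exact IsPullback.of_iso h3 θ.symm (Iso.refl _) (Iso.refl _) (Iso.refl _) (by simp) (by simp [← hθ]) (by simp) (by simp)
  have hprop : IsProper b := Groth.Agent.Flat2C.BlowProper.isProper_of_isBlowUp hb (isFiniteTypeIdeal _)
  have hprop' : IsProper b' := Groth.Agent.Flat2C.BlowProper.isProper_of_isBlowUp hb' (isFiniteTypeIdeal _)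
  have hpt : g₀ y₀ = C.g C.y := rfl
  have hcl : IsClosed ({g₀ y₀} : Set (Spec (CommRingCat.of (W C.D C.a)))) := by
    have h3 : ({g₀ y₀} : Set (Spec (CommRingCat.of (W C.D C.a)))) = ((idl (orig C.t C.a)).support : Set _) := by
      ext w
      rw [SetLike.mem_coe, C.eq_iff_mem_support _ (C.asIdeal_eq_orig hreg htm)]
      rfl
    rw [h3]
    exact (idl (orig C.t C.a)).support.isClosed
  have hci : IsClosedImmersion ((Spec (CommRingCat.of (W C.D C.a))).fromSpecResidueField (g₀ y₀)) :=
    isClosed_singleton_iff_isClosedImmersion.mp hcl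
  have hci' : IsClosedImmersion (b'.fiberι (g₀ y₀)) := MorphismProperty.pullback_fst _ _ hci
  have h3 : Subsingleton (Coh.HH (b'.fiber (g₀ y₀)) (Coh.structureModule (b'.fiber (g₀ y₀))) 1) := by
    refine TwoBlow.subsingleton_H1 (orig C.t C.a) b' hb' (x := uu C.D C.a + vv C.D C.a)
      (y := algebraMap C.D _ C.t) ?_ ?_ (orig_sq_le C.t c hc) (b'.fiberι (g₀ y₀))
    · exact Ideal.add_mem _ (Ideal.subset_span (by simp)) (Ideal.subset_span (by simp))
    · exact Ideal.subset_span (by simp)
  rw [← FibIff.fibre_iff hpb y₀ 0] at h3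
  have h4 := (FibIff.fibre_iff (IsPullback.of_hasPullback e₀ b).flip y₀ 0).1 h3
  rw [← hey]
  exact h4

/-- **`H¹(E, O_E) = 0` for the exceptional fibre over a non-regular point.** -/
theorem subsingleton_H1 (R : Type u) [CommRing R] [IsDomain R] [IsDiscreteValuationRing R]
    {X X' : Scheme.{u}} (f : X ⟶ Spec (CommRingCat.of R)) [IsLocallyNoetherian X]
    (hf : Curv2.IsNodalFamily f) (x : X) (hx : f x = (closedPoint R : PrimeSpectrum R)) (hxc : IsClosed ({x} : Set X))
    (hreg : ¬ IsRegularLocalRing (X.presheaf.stalk x))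
    (b : X' ⟶ X) (hb : BlowUp.IsBlowUp b (Scheme.IdealSheafData.vanishingIdeal ⟨{x}, hxc⟩)) :
    Subsingleton (Coh.HH (b.fiber x) (Coh.structureModule (b.fiber x)) 1) := by
  obtain ⟨ϖ, hϖ⟩ := IsDiscreteValuationRing.exists_irreducible R
  obtain ⟨C⟩ := exists_nchart hϖ f hf x hx
  obtain ⟨c, hc, -⟩ := C.exists_c hreg
  have htm : algebraMap C.D (W C.D C.a) C.t ∈ (C.g C.y).asIdeal := by
    rw [C.t_mem_iff hϖ, C.hy]
    exact hx
  exact subsingleton_H1_of_chart C hreg htm c hc hxc b hb

end K228.NodeH1
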