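import Groth.Agent.SemiFact.K228.NodeFib
import Groth.Agent.Surf.K455.ExcCurve
import Groth.Agent.IntTh.K711.ProjDim
import Groth.Agent.Flat2G.StructHH
import Groth.Agent.S0023
import Groth.Agent.Ega1.ReducedSub

/-!
The exceptional fibre of the blow-up of a closed point with two-dimensional regular local ring.
-/

set_option autoImplicit false
universe u

open CategoryTheory CategoryTheory.Limits AlgebraicGeometry IsLocalRing TopologicalSpace

namespace K228.RegFib

open Groth.Agent.CycB.FiberStalk Groth.Agent.Dix.PointIdeal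

/-- The vanishing ideal of a closed point. -/
theorem vanishingIdeal_point {C : Scheme.{u}} (y : C) (hy : IsClosed ({y} : Set C)) :
    Scheme.IdealSheafData.vanishingIdeal ⟨{y}, hy⟩ = (C.fromSpecResidueField y).ker := by
  have hcl : IsClosedImmersion (C.fromSpecResidueField y) :=
    isClosed_singleton_iff_isClosedImmersion.mp hy
  rw [Groth.Agent.Ega1.ReducedSub.ker_eq_vanishingIdeal]
  congr 1
  ext1
  change ({y} : Set C) = closure (Set.range (C.fromSpecResidueField y))
  rw [Scheme.range_fromSpecResidueField, hy.closure_eq]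

theorem comap_vanishingIdeal {X C : Scheme.{u}} (π : X ⟶ C) (y : C) (hy : IsClosed ({y} : Set C)) :
    (Scheme.IdealSheafData.vanishingIdeal ⟨{y}, hy⟩).comap π = (π.fiberι y).ker := by
  have hcl : IsClosedImmersion (C.fromSpecResidueField y) :=
    isClosed_singleton_iff_isClosedImmersion.mp hy
  rw [vanishingIdeal_point]
  exact (Scheme.IdealSheafData.ker_fst_of_isClosedImmersion _ _).symm

/-- the fibre over a closed point is the closed subscheme of the inverse image ideal -/
theorem nonempty_iso {E X Y : Scheme.{u}} (π : Y ⟶ X) (p : X) (hp : IsClosed ({p} : Set X)) (i : E ⟶ Y)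
    [IsClosedImmersion i] (hi : i.ker = (Scheme.IdealSheafData.vanishingIdeal ⟨{p}, hp⟩).comap π) :
    Nonempty (E ≅ π.fiber p) := by
  have hci : IsClosedImmersion (X.fromSpecResidueField p) := isClosed_singleton_iff_isClosedImmersion.mp hp
  have hci' : IsClosedImmersion (π.fiberι p) := MorphismProperty.pullback_fst _ _ hci
  have h1 : (π.fiberι p).ker = i.ker := by rw [hi, comap_vanishingIdeal]
  have := IsClosedImmersion.isIso_lift (π.fiberι p) i h1
  exact ⟨asIso (IsClosedImmersion.lift (π.fiberι p) i h1.le)⟩

theorem fiber {X Y : Scheme.{u}} (π : Y ⟶ X) (p : X) (hp : IsClosed ({p} : Set X))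
    [IsRegularLocalRing (X.presheaf.stalk p)] (hdim : ringKrullDim (X.presheaf.stalk p) = 2)
    (hπ : BlowUp.IsBlowUp π (Scheme.IdealSheafData.vanishingIdeal ⟨{p}, hp⟩)) :
    IsReduced (π.fiber p) ∧ topologicalKrullDim (π.fiber p) = 1 ∧
      Subsingleton (Coh.HH (π.fiber p) (Coh.structureModule (π.fiber p)) 1) := by
  obtain ⟨i, hi, hker, -, -⟩ := K455.ExcCurve.exists_curve π p hp hdim hπ
  obtain ⟨e⟩ := nonempty_iso π p hp i hker
  let _ : Field (X.presheaf.stalk p ⧸ maximalIdeal (X.presheaf.stalk p)) := Ideal.Quotient.field _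
  refine ⟨?_, ?_, ?_⟩
  · have h1 := K711.ProjDim.isReduced_projSpace 1 (X.presheaf.stalk p ⧸ maximalIdeal (X.presheaf.stalk p))
    exact isReduced_of_isOpenImmersion e.inv
  · have h1 := K711.ProjDim.topologicalKrullDim_projSpace 1 (X.presheaf.stalk p ⧸ maximalIdeal (X.presheaf.stalk p))
    rw [← (e.hom.homeomorph).isHomeomorph.topologicalKrullDim_eq]
    exact_mod_cast h1
  · rw [← Groth.Agent.Flat2G.StructHH.HH_iso_iff e 1]
    exact Groth.Agent.S0023.result 1 (X.presheaf.stalk p ⧸ maximalIdeal (X.presheaf.stalk p)) 1 one_pos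

/-- The local rings of a nodal family over a discrete valuation ring at closed points of the special fibre have
dimension two. -/
theorem ringKrullDim_stalk {R : Type u} [CommRing R] [IsDomain R] [IsDiscreteValuationRing R] {X : Scheme.{u}}
    (f : X ⟶ Spec (CommRingCat.of R)) [IsLocallyNoetherian X] [Flat f]
    (hpure : ∀ Z ∈ irreducibleComponents ↥(f.fiber (closedPoint R)), topologicalKrullDim Z = 1)
    (p : X) (hp : IsClosed ({p} : Set X)) (hfp : f p = (closedPoint R : PrimeSpectrum R)) :
    ringKrullDim (X.presheaf.stalk p) = 2 := by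
  obtain ⟨ϖ, hϖ⟩ := IsDiscreteValuationRing.exists_irreducible R
  have hreg := K793.Basic.stalkHom_mem_nonZeroDivisors f p hϖ.ne_zero
  have hm : DualGr.stalkHom f p ϖ ∈ maximalIdeal (X.presheaf.stalk p) := by
    rw [mem_maximalIdeal, mem_nonunits_iff, K793.Basic.isUnit_stalkHom_iff_ne f _ hϖ]
    exact fun h => h hfp
  obtain ⟨w, hw⟩ := K793.Basic.exists_fiber_point f p hfp
  have hwc : IsClosed ({w} : Set (f.fiber (closedPoint R))) := by
    have h4 : ({w} : Set (f.fiber (closedPoint R))) = f.fiberι (closedPoint R) ⁻¹' {p} := by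
      ext v
      simp only [Set.mem_singleton_iff, Set.mem_preimage]
      constructor
      · rintro rfl; exact hw
      · intro hv
        exact (f.fiberι (closedPoint R)).isEmbedding.injective (hv.trans hw.symm)
    rw [h4]
    exact hp.preimage (f.fiberι (closedPoint R)).continuous
  have hquot : ringKrullDim (X.presheaf.stalk p ⧸ Ideal.span {DualGr.stalkHom f p ϖ}) = 1 := by
    rw [ringKrullDim_eq_of_ringEquiv (K793.Basic.fibEquiv f p hϖ w hw)]
    apply le_antisymm
    · refine (Groth.Agent.CurvesB.DimPts.ringKrullDim_stalk_le w).trans ?_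
      rw [Groth.Agent.VarietyB.DimTop.topologicalKrullDim_eq_iSup_irreducibleComponents]
      exact iSup_le fun Z => (hpure Z.1 Z.2).le
    · by_contra hcon
      have h0 := NodeFib.le_zero_of_lt_one (not_le.1 hcon)
      rw [ringKrullDim_stalk_eq_coheight] at h0
      have hgen : ∀ v, v ⤳ w → v = w := by
        intro v hv
        have h1 : Order.coheight w = 0 := by
          have h2 : Order.coheight w ≤ 0 := by exact_mod_cast h0
          exact le_antisymm h2 bot_le
        have h2 : IsMax w := Order.coheight_eq_zero.1 h1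
        have h3 : w ⤳ v := h2 hv
        exact (hv.antisymm h3).eq
      obtain ⟨v, hwv, hne⟩ := (Groth.Agent.CurvesB.DimOneTop.forall_irreducibleComponents_iff.1 hpure w hgen).1
      exact hne (hwv.mem_closed hwc rfl)
  apply le_antisymm
  · have h1 := ringKrullDim_le_ringKrullDim_quotient_add_card
      ({DualGr.stalkHom f p ϖ} : Finset (X.presheaf.stalk p)) (by
      rw [IsLocalRing.ringJacobson_eq_maximalIdeal]
      simpa using hm)
    simp only [Finset.card_singleton, Nat.cast_one] at h1
    have h2 : ((({DualGr.stalkHom f p ϖ} : Finset (X.presheaf.stalk p))) : Set (X.presheaf.stalk p)) =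
      {DualGr.stalkHom f p ϖ} := Finset.coe_singleton _
    rw [h2, hquot] at h1
    refine h1.trans (le_of_eq ?_)
    norm_num
  · have h1 := ringKrullDim_quotient_succ_le_of_nonZeroDivisor hreg
    rw [hquot] at h1
    refine le_trans (le_of_eq ?_) h1
    norm_num

end K228.RegFib
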