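import Groth.Agent.S1641
import Groth.Agent.S7641
import Groth.Agent.CurvesC.CurveCoh
import Groth.Agent.VBCurve.K703.Basic
import Groth.Agent.Ega2.QCohLocal
import Groth.Agent.CurvesB.HZero
import Groth.Agent.S0002

/-!
An invertible module of degree zero on the components of a reduced connected proper curve with `H¹(O) = 0` is trivial.
-/

set_option autoImplicit false
universe u

open CategoryTheory CategoryTheory.Limits AlgebraicGeometry TopologicalSpace

namespace K228.TrivDeg

theorem radical_eq (X : Scheme.{u}) [IsNoetherian X] (Z : Set X) (hZ : Z ∈ irreducibleComponents X) :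
    (X.irreducibleComponentIdeal Z hZ).radical =
      Scheme.IdealSheafData.vanishingIdeal ⟨Z, isClosed_of_mem_irreducibleComponents Z hZ⟩ := by
  rw [← Scheme.IdealSheafData.vanishingIdeal_support]
  rfl

/-- the degree of `L` on the closed subscheme of `J` -/
noncomputable def degOn (k : Type u) [Field k] (X : Scheme.{u}) [X.Over (Spec (CommRingCat.of k))] (L : X.Modules)
    (J : X.IdealSheafData) : ℤ :=
  @Curv2.deg k _ J.subscheme ⟨J.subschemeι ≫ (X ↘ (Spec (CommRingCat.of k)))⟩
    ((Scheme.Modules.pullback J.subschemeι).obj L) 1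

/-- An invertible module of degree zero on the components of a reduced connected proper curve with `H¹(O) = 0` is
trivial. -/
theorem triv (k : Type u) [Field k] (X : Scheme.{u}) [X.Over (Spec (CommRingCat.of k))]
    [IsProper (X ↘ (Spec (CommRingCat.of k)))] [IsReduced X] [ConnectedSpace X]
    (hdim : ∀ (C : Set X), C ∈ irreducibleComponents (X : Type u) → topologicalKrullDim C = 1)
    (hdimX : topologicalKrullDim X = 1)
    (h1 : Subsingleton (Coh.HH X (Coh.structureModule X) 1))
    (L : X.Modules) (hL : PicF.IsInvertible L)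
    (hdeg : ∀ (Z : Set X) (hZ : Z ∈ irreducibleComponents (X : Type u)),
      degOn k X L (Scheme.IdealSheafData.vanishingIdeal ⟨Z, isClosed_of_mem_irreducibleComponents Z hZ⟩) = 0) :
    Nonempty (L ≅ Coh.structureModule X) := by
  have hN : IsLocallyNoetherian X := LocallyOfFiniteType.isLocallyNoetherian (X ↘ (Spec (CommRingCat.of k)))
  have hc : CompactSpace X := QuasiCompact.compactSpace_of_compactSpace (X ↘ (Spec (CommRingCat.of k)))
  have hNX : IsNoetherian X := { }
  have hdeg' : ∀ (Z : Set X) (hZ : Z ∈ irreducibleComponents (X : Type u)),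
      degOn k X L (X.irreducibleComponentIdeal Z hZ).radical = 0 := by
    intro Z hZ
    rw [radical_eq]
    exact hdeg Z hZ
  have h2 : Curv2.deg k X L 1 = 0 := by
    rw [Groth.Agent.S1641.result k X hdimX.le 1 L (Groth.Agent.Ega2.QCohLocal.isFinLocFreeOfRank_one_iff.2 hL)]
    rw [finsum_eq_zero_of_forall_eq_zero]
    intro Z
    split_ifs with h
    · have := hdeg' Z.1 Z.2
      unfold degOn at this
      rw [this, mul_zero]
    · rfl
  rcases Groth.Agent.S7641.result k X hdim L hL (fun C hC => (hdeg' C hC).le) with h | h
  · exfalso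
    have h3 := h2
    unfold Curv2.deg at h3
    rw [Groth.Agent.CurvesC.CurveCoh.euler_eq k X hdimX, Groth.Agent.CurvesC.CurveCoh.euler_eq k X hdimX,
      Module.finrank_zero_of_subsingleton (M := Coh.HH X L 0),
      Module.finrank_zero_of_subsingleton (M := Coh.HH X (Coh.structureModule X) 1)] at h3
    have h4 : 0 < Module.finrank k (Coh.HH X (Coh.structureModule X) 0) := by
      have f := Groth.Agent.S0002.result k X _ (Groth.Agent.CurvesB.UnitCoh.isCoh_structureModule X) 0
      have hne : Nonempty (⊤ : X.Opens) := ⟨⟨Classical.arbitrary X, trivial⟩⟩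
      have hnt : Nontrivial Γ(X, ⊤) := Scheme.component_nontrivial X ⊤
      have : Nontrivial (Coh.HH X (Coh.structureModule X) 0) :=
        (Groth.Agent.CurvesB.HZero.equivO X).toEquiv.nontrivial
      exact Module.finrank_pos
    push_cast at h3
    omega
  · exact h

end K228.TrivDeg
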