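import Groth.Agent.S7187
import Groth.Agent.S2431
import Groth.Agent.CurvesC.TailMain
import Groth.Agent.SemiFact.K228.TrivDeg
import Groth.Agent.SemiFact.K228.BlowO
import Groth.Agent.SemiFact.K228.NodeH1
import Groth.Agent.SemiFact.K228.NodeFib
import Groth.Agent.SemiFact.K228.RegFib

/-!
Direct image of an invertible module of degree zero on the exceptional components of a point blow-up of a proper nodal
family over a discrete valuation ring.
-/

set_option autoImplicit false
universe u

open CategoryTheory CategoryTheory.Limits AlgebraicGeometry IsLocalRing TopologicalSpace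

namespace K228.Main

section Iso

variable {X Y : Scheme.{u}} (π : Y ⟶ X) (p : X) (hp : IsClosed ({p} : Set X))
  (hπ : BlowUp.IsBlowUp π (Scheme.IdealSheafData.vanishingIdeal ⟨{p}, hp⟩))

include hπ in
/-- Off the centre the fibres are spectra of the residue fields. -/
theorem isIso_fiberToSpecResidueField (y : X) (hy : y ≠ p) : IsIso (π.fiberToSpecResidueField y) := by
  set J := Scheme.IdealSheafData.vanishingIdeal (X := X) ⟨{p}, hp⟩ with hJ
  have h1 := Groth.Agent.S1682.result J π hπ
  have hU : IsPullback (π ∣_ J.support.compl) (π ⁻¹ᵁ J.support.compl).ι (Scheme.Opens.ι J.support.compl) π :=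
    isPullback_morphismRestrict π _
  have hrange : Set.range (X.fromSpecResidueField y) ⊆ Set.range (Scheme.Opens.ι J.support.compl) := by
    rw [Scheme.Opens.range_ι, Scheme.range_fromSpecResidueField]
    rintro _ rfl
    change _ ∉ J.support
    rw [← SetLike.mem_coe, hJ, Scheme.IdealSheafData.coe_support_vanishingIdeal]
    exact hy
  let j₁ := IsOpenImmersion.lift (Scheme.Opens.ι J.support.compl) (X.fromSpecResidueField y) hrange
  have hj₁ : j₁ ≫ Scheme.Opens.ι J.support.compl = X.fromSpecResidueField y := IsOpenImmersion.lift_fac _ _ _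
  have hpb : IsPullback (π.fiberι y) (π.fiberToSpecResidueField y) π (X.fromSpecResidueField y) :=
    IsPullback.of_hasPullback _ _
  have hw : (π.fiberToSpecResidueField y ≫ j₁) ≫ Scheme.Opens.ι J.support.compl = π.fiberι y ≫ π := by
    rw [Category.assoc, hj₁]
    exact hpb.w.symm
  let l := hU.lift (π.fiberToSpecResidueField y ≫ j₁) (π.fiberι y) hw
  have hl1 : l ≫ (π ∣_ J.support.compl) = π.fiberToSpecResidueField y ≫ j₁ := hU.lift_fst _ _ _
  have hl2 : l ≫ (π ⁻¹ᵁ J.support.compl).ι = π.fiberι y := hU.lift_snd _ _ _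
  have hbig : IsPullback (l ≫ (π ⁻¹ᵁ J.support.compl).ι) (π.fiberToSpecResidueField y) π
      (j₁ ≫ Scheme.Opens.ι J.support.compl) := by
    rw [hl2, hj₁]
    exact hpb
  have hsm : IsPullback l (π.fiberToSpecResidueField y) (π ∣_ J.support.compl) j₁ :=
    IsPullback.of_right hbig hl1 hU.flip
  exact MorphismProperty.of_isPullback (P := MorphismProperty.isomorphisms Scheme.{u}) hsm h1

end Iso

open Groth.Agent.Fdesc.LocGen in
/-- an invertible module on a scheme with a single point is trivial -/
theorem pic_trivial {F : Scheme.{u}} [Subsingleton F] [Nonempty F] (L : F.Modules)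
    (hL : PicF.IsInvertible L) : Nonempty (L ≅ Coh.structureModule F) := by
  obtain ⟨x⟩ := ‹Nonempty F›
  obtain ⟨U, e, hxU, he⟩ := (isInvertible_iff L).1 hL x
  obtain rfl : U = ⊤ := by
    ext y
    simpa [Subsingleton.elim y x] using hxU
  have h1 : IsIso (homOf e) := by
    rw [isIso_iff_isGen]
    simpa using he
  exact ⟨(asIso (homOf e)).symm⟩

theorem dim_le_one_of_subsingleton {T : Type*} [TopologicalSpace T] [Subsingleton T] :
    topologicalKrullDim T ≤ 1 := by
  by_contra hcon
  have h1 : (1 : WithBot ℕ∞) ≤ topologicalKrullDim T := (not_le.1 hcon).le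
  obtain ⟨a, b, hab⟩ := Order.one_le_krullDim_iff.1 h1
  obtain ⟨x, hx⟩ := a.isIrreducible.nonempty
  apply hab.not_ge
  intro z _
  rw [Subsingleton.elim z x]
  exact hx

/-- the facts on the exceptional fibre -/
theorem exceptional (R : Type u) [CommRing R] [IsDomain R] [IsDiscreteValuationRing R]
    {X Y : Scheme.{u}} (f : X ⟶ Spec (CommRingCat.of R)) [IsProper f] (hf : Curv2.IsNodalFamily f)
    (p : X) (hp : IsClosed ({p} : Set X))
    (π : Y ⟶ X) (hπ : BlowUp.IsBlowUp π (Scheme.IdealSheafData.vanishingIdeal ⟨{p}, hp⟩))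
    [ConnectedSpace (π.fiber p)] :
    IsReduced (π.fiber p) ∧ topologicalKrullDim (π.fiber p) = 1 ∧
      Subsingleton (Coh.HH (π.fiber p) (Coh.structureModule (π.fiber p)) 1) := by
  have h1 : IsNoetherianRing R := inferInstance
  have h2 : IsLocallyNoetherian X := LocallyOfFiniteType.isLocallyNoetherian f
  have h3 : IsProper π := Groth.Agent.Flat2C.BlowProper.isProper_of_isBlowUp hπ (K793.Chart.isFiniteTypeIdeal _)
  have hN : IsLocallyNoetherian Y := LocallyOfFiniteType.isLocallyNoetherian π
  have hflat : Flat f := hf.1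
  have hfp := BlowO.map_eq_closedPoint f p hp
  by_cases hreg : IsRegularLocalRing (X.presheaf.stalk p)
  · exact RegFib.fiber π p hp (RegFib.ringKrullDim_stalk f (hf.2.2 (closedPoint R)).1 p hp hfp) hπ
  · have hY := K793.Chart.isNodalFamily_blowUp R f hf p hfp hp hreg π hπ
    have hflat' : Flat (π ≫ f) := hY.1
    have hpure := (hY.2.2 (closedPoint R)).1
    have hred := K793.NodalFib.isReduced_fiber (π ≫ f) hY (closedPoint R)
    exact ⟨NodeFib.isReduced_fiber f π p hp hfp hπ hred,
      le_antisymm (NodeFib.dim_fiber_le f π p hfp hpure) (NodeFib.one_le_dim_fiber f π p hp hfp hπ hpure),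
      NodeH1.subsingleton_H1 R f hf p hfp hp hreg π hπ⟩

theorem main (R : Type u) [CommRing R] [IsDomain R] [IsDiscreteValuationRing R]
    {X Y : Scheme.{u}} (f : X ⟶ Spec (CommRingCat.of R)) [IsProper f] (hf : Curv2.IsNodalFamily f)
    (p : X) (hp : IsClosed ({p} : Set X))
    (π : Y ⟶ X) (hπ : BlowUp.IsBlowUp π (Scheme.IdealSheafData.vanishingIdeal ⟨{p}, hp⟩))
    (L : Y.Modules) (hL : PicF.IsInvertible L)
    (hdeg : ∀ (Z : Set ↥(π.fiber p)) (hZ : Z ∈ irreducibleComponents ↥(π.fiber p)),
      @Curv2.deg (X.residueField p) _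
        (Scheme.IdealSheafData.vanishingIdeal (⟨Z, isClosed_of_mem_irreducibleComponents Z hZ⟩ : TopologicalSpace.Closeds ↥(π.fiber p))).subscheme
        ⟨(Scheme.IdealSheafData.vanishingIdeal (⟨Z, isClosed_of_mem_irreducibleComponents Z hZ⟩ : TopologicalSpace.Closeds ↥(π.fiber p))).subschemeι ≫ π.fiberToSpecResidueField p⟩
        ((Scheme.Modules.pullback ((Scheme.IdealSheafData.vanishingIdeal (⟨Z, isClosed_of_mem_irreducibleComponents Z hZ⟩ : TopologicalSpace.Closeds ↥(π.fiber p))).subschemeι ≫ π.fiberι p)).obj L) 1 = 0) :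
    PicF.IsInvertible ((Scheme.Modules.pushforward π).obj L) := by
  have h1 : IsNoetherianRing R := inferInstance
  have h2 : IsLocallyNoetherian X := LocallyOfFiniteType.isLocallyNoetherian f
  have hcX : CompactSpace X := QuasiCompact.compactSpace_of_compactSpace f
  have hNX : IsNoetherian X := { }
  have h3 : IsProper π := Groth.Agent.Flat2C.BlowProper.isProper_of_isBlowUp hπ (K793.Chart.isFiniteTypeIdeal _)
  have hN : IsLocallyNoetherian Y := LocallyOfFiniteType.isLocallyNoetherian π
  have hcY : CompactSpace Y := QuasiCompact.compactSpace_of_compactSpace π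
  have hNY : IsNoetherian Y := { }
  have hO := BlowO.isIso_app f hf p hp π hπ
  have hC : ConnectedSpace (π.fiber p) := (Groth.Agent.S2431.result π hO).1 p
  obtain ⟨hred, hdim, hH1⟩ := exceptional R f hf p hp π hπ
  have hoff : ∀ y : X, y ≠ p → Subsingleton (π.fiber y) ∧ Nonempty (π.fiber y) ∧ IsAffine (π.fiber y) := by
    intro y hy
    have := isIso_fiberToSpecResidueField π p hp hπ y hy
    let e := (π.fiberToSpecResidueField y).homeomorph
    exact ⟨e.injective.subsingleton, ⟨e.symm (Classical.arbitrary _)⟩,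
      IsAffine.of_isIso (π.fiberToSpecResidueField y)⟩
  refine (Groth.Agent.S7187.result π hO ?_ ?_).2 L hL ?_
  · intro y
    by_cases hy : y = p
    · subst hy
      exact hdim.le
    · have := (hoff y hy).1
      exact dim_le_one_of_subsingleton
  · intro y
    by_cases hy : y = p
    · subst hy
      exact hH1
    · have := (hoff y hy).2.2
      have hQ : Coh.IsQCoh (Coh.structureModule (π.fiber y)) := Groth.Agent.CurvesC.UnitCoh.isQCoh_unit _
      exact Groth.Agent.CohqA.AffineVanish.HH_subsingleton (π.fiber y) _ 1 one_pos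
  · intro y
    by_cases hy : y = p
    · subst hy
      let o : (π.fiber y).Over (Spec (CommRingCat.of (X.residueField y))) := ⟨π.fiberToSpecResidueField y⟩
      have hp1 : IsProper ((π.fiber y) ↘ (Spec (CommRingCat.of (X.residueField y)))) :=
        (MorphismProperty.pullback_snd _ _ h3 : IsProper (π.fiberToSpecResidueField y))
      have hN1 : IsLocallyNoetherian (π.fiber y) :=
        LocallyOfFiniteType.isLocallyNoetherian ((π.fiber y) ↘ (Spec (CommRingCat.of (X.residueField y))))
      have hc1 : CompactSpace (π.fiber y) :=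
        QuasiCompact.compactSpace_of_compactSpace ((π.fiber y) ↘ (Spec (CommRingCat.of (X.residueField y))))
      have hNX1 : IsNoetherian (π.fiber y) := { }
      refine TrivDeg.triv (X.residueField y) (π.fiber y)
        (Groth.Agent.CurvesC.TailMain.pure_of_connected (π.fiber y) hdim) hdim hH1 _
        (Groth.Agent.Fdesc.LocGen.isInvertible_pullback _ hL) fun Z hZ => ?_
      rw [← hdeg Z hZ]
      unfold TrivDeg.degOn
      exact @K703.Basic.deg_congr (X.residueField y) _ _ ⟨_⟩ _ _ ((Scheme.Modules.pullbackComp _ _).app L) 1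
    · have := (hoff y hy).1
      have := (hoff y hy).2.1
      exact pic_trivial _ (Groth.Agent.Fdesc.LocGen.isInvertible_pullback _ hL)

end K228.Main
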