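import Groth.Agent.Flat2G.CohDescent
import Groth.Agent.CurvesC.UnitCoh

/-!
Vanishing of the cohomology of the structure sheaf of fibres is invariant under base change.
-/

set_option autoImplicit false
universe u

open CategoryTheory CategoryTheory.Limits AlgebraicGeometry

namespace K228.FibIff

theorem faithfullyFlat_SpecMap {K L : CommRingCat.{u}} (hK : IsField K) (hL : IsField L) (φ : K ⟶ L) :
    (Spec.map φ).appTop.hom.FaithfullyFlat := by
  let _ := hK.toField
  let _ := hL.toField
  rw [← Flat.flat_and_surjective_iff_faithfullyFlat_of_isAffine]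
  constructor
  · rw [HasRingHomProperty.Spec_iff (P := @Flat)]
    let _ := φ.hom.toAlgebra
    change Module.Flat K L
    infer_instance
  · have h1 : Subsingleton (Spec K) := inferInstanceAs (Subsingleton (PrimeSpectrum K))
    have h2 : Nonempty (Spec L) := inferInstanceAs (Nonempty (PrimeSpectrum L))
    exact ⟨fun x => ⟨h2.some, Subsingleton.elim _ _⟩⟩

/-- The vanishing of higher cohomology of the structure sheaf of the fibres is invariant under base change. -/
theorem fibre_iff {P X Y Z : Scheme.{u}} {fst : P ⟶ X} {snd : P ⟶ Y} {f : X ⟶ Z} {g : Y ⟶ Z}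
    (h : IsPullback fst snd f g) [QuasiCompact f] [IsSeparated f] (y : Y) (n : ℕ) :
    Subsingleton (Coh.HH (snd.fiber y) (Coh.structureModule (snd.fiber y)) (n + 1)) ↔
      Subsingleton (Coh.HH (f.fiber (g y)) (Coh.structureModule (f.fiber (g y))) (n + 1)) := by
  have h1 := isPullback_fiberToSpecResidueField_of_isPullback h y
  have hff := faithfullyFlat_SpecMap (K := Z.residueField (g y)) (L := Y.residueField y) (Field.toIsField _)
    (Field.toIsField _) (g.residueFieldMap y)
  have hfl : Flat (Spec.map (g.residueFieldMap y)) :=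
    ((Flat.flat_and_surjective_iff_faithfullyFlat_of_isAffine _).2 hff).1
  have hqc : QuasiCompact (f.fiberToSpecResidueField (g y)) := MorphismProperty.pullback_snd _ _ inferInstance
  have hsep : AlgebraicGeometry.IsSeparated (f.fiberToSpecResidueField (g y)) :=
    MorphismProperty.pullback_snd (P := @AlgebraicGeometry.IsSeparated) _ _ ‹_›
  have hQ := Groth.Agent.CurvesC.UnitCoh.isQCoh_unit (f.fiber (g y))
  have e := Groth.Agent.Flat2G.CohDescent.subsingleton_structure_iff
    (pullback.map _ _ _ _ fst (Spec.map (g.residueFieldMap y)) g h.w.symm (by simp) :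
      snd.fiber y ⟶ f.fiber (g y)) (n + 1)
  refine e.symm.trans ?_
  constructor
  · intro hv
    exact @Groth.Agent.Flat2G.CohDescent.subsingleton_of_faithfullyFlat _ _ _ _ _ _ _ _ h1 _ _ hff hqc hsep _ hQ n hv
  · intro hv
    exact @Groth.Agent.Flat2G.CohDescent.subsingleton_of_flat _ _ _ _ _ _ _ _ h1 _ _ hfl hqc hsep _ hQ n hv

end K228.FibIff
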